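import Cfsg.Agent.H715.DPU.Def
import Cfsg.Agent.H38.NP.Irr
import Cfsg.Agent.H170.HL.ClRows
import Cfsg.Agent.Lib.NormalAbelian

/-!
# The frame of a Hall subgroup of `GU_n(q)` (S4247, row PSU, task D), helper38
-/

set_option autoImplicit false

namespace Cfsg.Agent.H38.DPU

open Module Cfsg Cfsg.Agent.H988.CPi Cfsg.Agent.H571.RV Cfsg.Agent.H817.DPi Cfsg.Agent.H380.RV
  Cfsg.Agent.H553.RV Cfsg.Agent.H167.OP Cfsg.Agent.H170.HL Cfsg.Agent.H556.HallRowAbs Cfsg.Agent.H715.DPU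
  Cfsg.Agent.H556.HallLB
open scoped commutatorElement

section

variable {F : Type*} [Field F] [Finite F] {V : Type*} [AddCommGroup V] [Module F V] {Y : Type*} [Group Y]
  {ρ : Representation F Y V} [FiniteDimensional F V] [Finite Y]

/-- a `t`-group of small dimension is abelian -/
theorem comm_of_tgroup (hinj : Function.Injective ρ) {t : ℕ} (ht : t.Prime) (htF : (t : F) ≠ 0) (h5 : 5 ≤ t)
    (hfield : ∀ k, 1 ≤ k → t ∣ Nat.card F ^ k - 1 → t - 1 ≤ 2 * k) {L : Subgroup Y} (hL : IsPGroup t L)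
    (hdim : finrank F (CV ρ L) ≤ 2 * (t - 1)) : ∀ x ∈ L, ∀ y ∈ L, x * y = y * x := by
  classical
  haveI : Fact t.Prime := ⟨ht⟩
  by_contra hcon
  push Not at hcon
  obtain ⟨x, hx, y, hy, hxy⟩ := hcon
  haveI : Group.IsNilpotent L := hL.isNilpotent
  -- a central element of the commutator subgroup
  have hne : commutator L ≠ ⊥ := by
    intro h
    apply hxy
    have h1 : ⁅(⟨x, hx⟩ : L), ⟨y, hy⟩⁆ ∈ commutator L := Subgroup.commutator_mem_commutator (Subgroup.mem_top _) (Subgroup.mem_top _)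
    rw [h, Subgroup.mem_bot, commutatorElement_eq_one_iff_mul_comm] at h1
    exact congrArg Subtype.val h1
  have h2 := Cfsg.Agent.Lib.NormalAbelian.normal_inf_center_ne_bot (commutator L) hne
  rw [Ne, Subgroup.eq_bot_iff_forall] at h2
  push Not at h2
  obtain ⟨c, hc, hc1⟩ := h2
  obtain ⟨hcL, hcZ⟩ := Subgroup.mem_inf.1 hc
  obtain ⟨N, hN⟩ := hL c
  have hcN : (c : Y) ^ (t ^ N) = 1 := congrArg Subtype.val hN
  have htN : ((t ^ N : ℕ) : F) ≠ 0 := cardNeOfPow htF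
  have hcc : ∀ g ∈ L, (c : Y) * g = g * c := by
    intro g hg
    exact (congrArg Subtype.val (Subgroup.mem_center_iff.1 hcZ ⟨g, hg⟩)).symm
  -- `[V, c]` is `L`-invariant
  have hR0 : Rg ρ (c : Y) ≠ ⊥ := by
    intro h
    apply hc1
    exact Subtype.ext (eq_one_of_Rg hinj h)
  have hRinv : ∀ g ∈ L, ∀ w ∈ Rg ρ (c : Y), ρ g w ∈ Rg ρ (c : Y) := fun g hg w hw => comm_Rg (hcc g hg) hw
  -- a minimal invariant subspace
  have hex : ∃ n, ∃ U : Submodule F V, (∀ g ∈ L, ∀ w ∈ U, ρ g w ∈ U) ∧ U ≠ ⊥ ∧ U ≤ Rg ρ (c : Y) ∧ finrank F U = n :=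
    ⟨_, Rg ρ (c : Y), hRinv, hR0, le_rfl, rfl⟩
  obtain ⟨U, hUi, hU0, hUR, hUd⟩ := Nat.find_spec hex
  have hmin : ∀ U' : Submodule F V, (∀ g ∈ L, ∀ w ∈ U', ρ g w ∈ U') → U' ≠ ⊥ → U' ≤ U → U' = U := by
    intro U' h1 h3 h4
    apply Submodule.eq_of_le_of_finrank_le h4
    rw [hUd]
    exact Nat.find_min' hex ⟨U', h1, h3, h4.trans hUR, rfl⟩
  let σ : L →* Module.End F U :=
    { toFun := fun g => (ρ g).restrict (hUi g g.2)
      map_one' := by
        refine LinearMap.ext fun w => Subtype.ext ?_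
        show ρ ((1 : L) : Y) w = w
        rw [Subgroup.coe_one, map_one]
        rfl
      map_mul' := fun g h => by
        refine LinearMap.ext fun w => Subtype.ext ?_
        show ρ ((g * h : L) : Y) w = ρ g (ρ h w)
        rw [Subgroup.coe_mul, map_mul]
        rfl }
  have hσ : ∀ (g : L) (w : U), ((σ g w : U) : V) = ρ g w := fun g w => rfl
  haveI : Nontrivial U := (Submodule.nontrivial_iff_ne_bot).2 hU0
  have hirr : ∀ U' : Submodule F U, (∀ g, ∀ u ∈ U', σ g u ∈ U') → U' = ⊥ ∨ U' = ⊤ := by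
    intro U' hU'
    by_cases h0 : U' = ⊥
    · exact Or.inl h0
    right
    have h1 : U'.map U.subtype = U := by
      apply hmin
      · rintro g hg _ ⟨u, hu, rfl⟩
        exact ⟨σ ⟨g, hg⟩ u, hU' ⟨g, hg⟩ u hu, rfl⟩
      · intro h
        apply h0
        rw [eq_bot_iff]
        intro u hu
        have h3 : (u : V) ∈ U'.map U.subtype := ⟨u, hu, rfl⟩
        rw [h, Submodule.mem_bot] at h3
        exact Subtype.ext h3
      · exact Submodule.map_subtype_le U U'
    rw [eq_top_iff]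
    intro u _
    have h3 : (u : V) ∈ U'.map U.subtype := by rw [h1]; exact u.2
    obtain ⟨u', hu', e⟩ := h3
    have h4 : u' = u := Subtype.ext e
    rwa [← h4]
  -- nonabelian
  have hna : ∃ g h, σ g * σ h ≠ σ h * σ g := by
    by_contra hab
    push Not at hab
    have h1 : ∀ d ∈ commutator L, σ d = 1 := by
      intro d hd
      have h3 : commutator L ≤ σ.ker := by
        rw [commutator_def, Subgroup.commutator_le]
        intro g _ h _
        rw [MonoidHom.mem_ker, commutatorElement_def]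
        have h4 : σ (g * h) = σ (h * g) := by rw [map_mul, map_mul, hab]
        have h5 : g * h * g⁻¹ * h⁻¹ = (g * h) * (h * g)⁻¹ := by group
        rw [h5, map_mul, h4, ← map_mul, mul_inv_cancel, map_one]
      exact h3 hd
    have h3 := h1 c hcL
    obtain ⟨w, hw⟩ := exists_ne (0 : U)
    apply hw
    apply Subtype.ext
    have h4 : ρ (c : Y) (w : V) = w := by
      rw [← hσ, h3]
      rfl
    exact eq_zero_of_fix htN hcN (hUR w.2) h4
  obtain ⟨k, i, hi, hk, hd, hdvd⟩ := Cfsg.Agent.H38.NP.exists_dim_irr (by omega) hL σ hirr hna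
  have h3 := hfield k hk hdvd
  have h4 : finrank F U ≤ 2 * (t - 1) := by
    refine le_trans (Submodule.finrank_mono ?_) hdim
    exact hUR.trans (range_le_CV ρ c.2)
  rw [hd] at h4
  have h6 : k * t ≤ k * t ^ i := Nat.mul_le_mul_left _ (Nat.le_self_pow (by omega) t)
  have h7 : k * t ≤ 2 * (t - 1) := h6.trans h4
  obtain ⟨t', rfl⟩ : ∃ t', t = t' + 5 := ⟨t - 5, by omega⟩
  have h8 : t' + 4 ≤ 2 * k := by omega
  have h9 : 2 * (k * (t' + 5)) ≤ 2 * (2 * (t' + 4)) := by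
    have : t' + 5 - 1 = t' + 4 := rfl
    rw [this] at h7
    omega
  have h10 : (t' + 4) * (t' + 5) ≤ 2 * k * (t' + 5) := Nat.mul_le_mul_right _ h8
  nlinarith

/-- two elements of order `t`, `t` the largest prime -/
theorem comm_top {e : ℕ → ℕ} (D : RowDat ρ e) {H : Subgroup Y} (hH : HC F H) {t : ℕ} (ht : t.Prime) (htF : (t : F) ≠ 0)
    (h5 : 5 ≤ t) (het : e t ≤ t - 1) (hmax : ∀ r : ℕ, r.Prime → r ∣ Nat.card H → r ≤ t ∧ 2 ≤ e r)
    (hfield : ∀ k, 1 ≤ k → t ∣ Nat.card F ^ k - 1 → t - 1 ≤ 2 * k) {x y : Y} (hx : IsZ ρ e t x) (hxH : x ∈ H)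
    (hy : IsZ ρ e t y) (hyH : y ∈ H) : x * y = y * x := by
  have := Fact.mk ht
  have hodd : Odd t := ht.odd_of_ne_two (by omega)
  set L : Subgroup Y := Subgroup.closure {x, y} with hL
  have hxL : x ∈ L := Subgroup.subset_closure (by simp)
  have hyL : y ∈ L := Subgroup.subset_closure (by simp)
  have hLH : L ≤ H := by
    rw [hL, Subgroup.closure_le]
    intro a ha
    simp only [Set.mem_insert_iff, Set.mem_singleton_iff] at ha
    rcases ha with rfl | rfl
    · exact hxH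
    · exact hyH
  have hLc := hH.mono hLH
  have hdim : finrank F (CV ρ L) ≤ 2 * (t - 1) := by
    have h1 : CV ρ L ≤ Rg ρ x ⊔ Rg ρ y := by
      rw [hL]
      refine CV_closure_le ?_
      intro a ha
      simp only [Set.mem_insert_iff, Set.mem_singleton_iff] at ha
      rcases ha with rfl | rfl
      · exact le_sup_left
      · exact le_sup_right
    have h2 := (Submodule.finrank_mono h1).trans (Submodule.finrank_add_le_finrank_add_finrank _ _)
    rw [finrank_Rg, finrank_Rg, hx.2, hy.2] at h2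
    omega
  have hC : CenH t L := by
    intro y' hy' r hrp hrt R hR hn
    by_cases hd : r ∣ Nat.card L
    · obtain ⟨h2, hrF⟩ := hLc.ok r hrp hd
      obtain ⟨h6, h7⟩ := hmax r hrp (hd.trans (Subgroup.card_dvd_of_le hLH))
      have h1 := cen_below D ht hrp (hrp.odd_of_ne_two h2) (lt_of_le_of_ne h6 hrt) hrF h7
        (Cfsg.Agent.H170.HL.Rows.beta_all D.inj t ht hodd htF) L hdim (y := y') (by
        obtain ⟨k, hk⟩ := hy'
        exact ⟨k, congrArg Subtype.val hk⟩) (R := R.map L.subtype) (Subgroup.map_subtype_le _) (by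
        rintro _ ⟨x, hx, rfl⟩
        obtain ⟨k, hk⟩ := hR ⟨x, hx⟩
        exact ⟨k, congrArg (fun z : R => ((z : L) : Y)) hk⟩) (by
        rintro _ ⟨x, hx, rfl⟩
        exact ⟨_, hn x hx, rfl⟩)
      intro d hd
      exact Subtype.ext (h1 d ⟨d, hd, rfl⟩)
    · intro d hdR
      obtain ⟨k, hk⟩ := hR ⟨d, hdR⟩
      have h1 : d ^ r ^ k = 1 := congrArg Subtype.val hk
      have h5 : Nat.Coprime (r ^ k) (Nat.card L) := Nat.Coprime.pow_left _ ((Nat.Prime.coprime_iff_not_dvd hrp).mpr hd)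
      have h6 : orderOf d ∣ 1 := by
        rw [← h5]
        exact Nat.dvd_gcd (orderOf_dvd_of_pow_eq_one h1) (orderOf_dvd_natCard d)
      rw [orderOf_eq_one_iff.mp (Nat.dvd_one.mp h6), mul_one, one_mul]
  have hgen : Subgroup.closure {x : L | ∃ k : ℕ, x ^ t ^ k = 1} = ⊤ := by
    rw [eq_top_iff, ← Subgroup.closure_closure_coe_preimage (k := ({x, y} : Set Y))]
    apply Subgroup.closure_mono
    rintro ⟨a, ha⟩ ham
    have h' : a = x ∨ a = y := by
      rcases ham with h | h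
      · exact Or.inl h
      · exact Or.inr h
    rcases h' with rfl | rfl
    · exact ⟨1, Subtype.ext (by rw [pow_one]; exact hx.1)⟩
    · exact ⟨1, Subtype.ext (by rw [pow_one]; exact hy.1)⟩
  have hLp : IsPGroup t L := isPGroup_of_cenH hLc.sol hC hgen
  exact comm_of_tgroup D.inj ht htF h5 hfield hLp hdim x hxL y hyL

end

section

variable {F : Type*} [Field F] {V : Type*} [AddCommGroup V] [Module F V] {Y : Type*} [Group Y]
  {ρ : Representation F Y V} [FiniteDimensional F V] [Finite Y]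

/-- frames permuted by `H` -/
theorem exists_fm {e : ℕ → ℕ} {X H : Subgroup Y} (D : LinDat ρ e X) {t : ℕ} (ht : t.Prime)
    (hodd : Odd t) (htF : (t : F) ≠ 0) (htH : t ∣ Nat.card H) (hidx : ¬ t ∣ H.index)
    (hcomm : ∀ x ∈ H, ∀ y ∈ H, IsZ ρ e t x → IsZ ρ e t y → x * y = y * x) :
    ∃ (a : ℕ) (z : Fin a → Y), Fm ρ e H t a z ∧ ∀ h ∈ H, ∀ i, ∃ j, (Rg ρ (z i)).map (ρ h) = Rg ρ (z j) := by
  obtain ⟨a, z, hz⟩ := exists_frame D ht hodd htF (htH.trans (Subgroup.card_subgroup_dvd_card H)) hidx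
  refine ⟨a, z, hz, fun h hh i => ?_⟩
  have h1 : h * z i * h⁻¹ ∈ H := H.mul_mem (H.mul_mem hh (hz.mem i)) (H.inv_mem hh)
  have h2 : IsZ ρ e t (h * z i * h⁻¹) := (hz.isZ i).conj h
  by_contra hcon
  push Not at hcon
  have h3 : ∀ j, ∀ w ∈ Rg ρ (h * z i * h⁻¹), ρ (z j) w = w := by
    intro j
    rcases atom_or D ht hodd htF h2 (hz.isZ j) (hcomm _ h1 _ (hz.mem j) h2 (hz.isZ j)) with h4 | h4
    · exfalso
      apply hcon j
      rw [← Rg_conj, h4]
    · exact h4
  have h4 := hz.max (Rg ρ (h * z i * h⁻¹)) h3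
  rw [finrank_Rg, h2.2] at h4
  exact lt_irrefl _ h4

end

/-- **Task D: the choice of the prime.** -/
theorem exists_Fr {F : Type} [Field F] [Fintype F] {n q : ℕ} {π : Set ℕ} (hF : Fintype.card F = q ^ 2) (hn : 3 ≤ n)
    (h2 : 2 ∉ π) (hp : ∀ r ∈ π, r.Prime → (r : F) ≠ 0) {H : Subgroup (GU n F q)} (hH : IsPiHall π H)
    (hnn : ¬ Group.IsNilpotent H) :
    ∃ (t a : ℕ) (z : Fin a → GU n F q), Fr q H t a z ∧ (n = 3 → eU q t = 1 → 5 ≤ t) ∧
      (eU q t = 1 → ∀ s : ℕ, s.Prime → s ∣ Nat.card H → eU q s = 1 ∨ eU q s = s - 1) := by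
  classical
  have D := linDat_GU (F := F) (q := q) hF n
  have hodd : Odd (Nat.card H) := Cfsg.Agent.H380.RV.odd_of_piN h2 hH.1
  have hHC : HC F H := ⟨S0205.result hodd, fun r hr hd => ⟨by
    rintro rfl
    exact h2 (hH.1 2 hr hd), hp r (hH.1 r hr hd) hr⟩⟩
  have hpr : ∀ r : ℕ, r.Prime → r ∣ Nat.card H → Odd r ∧ (r : F) ≠ 0 ∧ ¬ r ∣ H.index := fun r hr hd =>
    ⟨hr.odd_of_ne_two (hHC.ok r hr hd).1, (hHC.ok r hr hd).2, hH.2 r hr (hH.1 r hr hd)⟩
  have hedvd : ∀ r : ℕ, r.Prime → r ∣ Nat.card H → eU q r ∣ r - 1 := fun r hr hd =>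
    D.row.edvd r hr (hpr r hr hd).2.1
  have hdich : ∀ r : ℕ, r.Prime → r ∣ Nat.card H → 2 * eU q r < r ∨ eU q r = r - 1 := by
    intro r hr hd
    obtain ⟨k, hk⟩ := hedvd r hr hd
    have hr2 := hr.two_le
    rcases Nat.lt_or_ge k 2 with h | h
    · right
      have hk1 : k = 1 := by
        interval_cases k
        · omega
        · rfl
      rw [hk1, mul_one] at hk
      exact hk.symm
    · left
      have h3 : eU q r * 2 ≤ eU q r * k := Nat.mul_le_mul_left _ h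
      omega
  -- generic primes
  have hgen : ∀ t : ℕ, t.Prime → t ∣ Nat.card H → 2 * eU q t < t → ∃ (a : ℕ) (z : Fin a → GU n F q), Fr q H t a z := by
    intro t ht hd hg
    obtain ⟨ho, htF, hi⟩ := hpr t ht hd
    obtain ⟨a, z, hz, hst⟩ := exists_fm D ht ho htF hd hi (fun x hx y hy h3 h4 =>
      small_comm D.row.inj hHC ht htF (h3.sm hx hg) (h4.sm hy hg))
    exact ⟨a, z, ht, ho, htF, hd, hz, hst⟩
  by_cases h1 : ∃ t : ℕ, t.Prime ∧ t ∣ Nat.card H ∧ 2 * eU q t < t ∧ eU q t ≠ 1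
  · obtain ⟨t, ht, hd, hg, he⟩ := h1
    obtain ⟨a, z, hz⟩ := hgen t ht hd hg
    exact ⟨t, a, z, hz, fun _ h => absurd h he, fun h => absurd h he⟩
  push Not at h1
  have hall : ∀ s : ℕ, s.Prime → s ∣ Nat.card H → eU q s = 1 ∨ eU q s = s - 1 := by
    intro s hs hd
    rcases hdich s hs hd with h | h
    · exact Or.inl (h1 s hs hd h)
    · exact Or.inr h
  have hrk : ∀ s : ℕ, s.Prime → s ∣ Nat.card H → eU q s ≤ n := by
    intro s hs hd
    obtain ⟨ho, hsF, -⟩ := hpr s hs hd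
    haveI := Fact.mk hs
    obtain ⟨x, hx⟩ := exists_prime_orderOf_dvd_card' s (hd.trans (Subgroup.card_subgroup_dvd_card H))
    have h3 := le_rk_of_ne D.row hs ho hsF (y := x) (by rw [← hx]; exact pow_orderOf_eq_one x) (by
      rintro rfl
      rw [orderOf_one] at hx
      exact hs.one_lt.ne hx)
    refine h3.trans ?_
    rw [← finrank_Rg]
    refine (Submodule.finrank_le _).trans ?_
    rw [finrank_fin_fun]
  -- not a prime power
  have htwo : ∀ t : ℕ, t.Prime → ∃ s : ℕ, s.Prime ∧ s ∣ Nat.card H ∧ s ≠ t := by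
    intro t ht
    by_contra hcon
    push Not at hcon
    haveI := Fact.mk ht
    apply hnn
    have h3 : IsPGroup t H := IsPGroup.of_card (Nat.eq_prime_pow_of_unique_prime_dvd Nat.card_pos.ne'
      fun {d} hd hdd => hcon d hd hdd)
    exact h3.isNilpotent
  by_cases h3 : ∃ t : ℕ, t.Prime ∧ t ∣ Nat.card H ∧ 2 * eU q t < t ∧ (n = 3 → 5 ≤ t)
  · obtain ⟨t, ht, hd, hg, he⟩ := h3
    obtain ⟨a, z, hz⟩ := hgen t ht hd hg
    exact ⟨t, a, z, hz, fun h _ => he h, fun _ => hall⟩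
  push Not at h3
  -- the largest prime
  have hngen : ∀ t : ℕ, t.Prime → t ∣ Nat.card H → eU q t = t - 1 ∧ 2 ≤ eU q t := by
    intro t ht hd
    rcases hdich t ht hd with h | h
    · exfalso
      obtain ⟨hn3, ht5⟩ := h3 t ht hd h
      have hg5 : ∀ s : ℕ, s.Prime → s ∣ Nat.card H → s = 3 := by
        intro s hs hsd
        have hs2 := hs.two_le
        have hso := (hpr s hs hsd).1
        have hs5 : s < 5 := by
          rcases hdich s hs hsd with h4 | h4
          · exact (h3 s hs hsd h4).2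
          · have h6 := hrk s hs hsd
            omega
        obtain ⟨m, hm⟩ := hso
        omega
      obtain ⟨s, hs, hsd, hst⟩ := htwo 3 Nat.prime_three
      exact hst (hg5 s hs hsd)
    · refine ⟨h, ?_⟩
      rw [h]
      have ht2 := ht.two_le
      obtain ⟨m, hm⟩ := (hpr t ht hd).1
      omega
  have hne : (Nat.card H).primeFactors.Nonempty := by
    obtain ⟨s, hs, hsd, -⟩ := htwo 2 Nat.prime_two
    exact ⟨s, Nat.mem_primeFactors.2 ⟨hs, hsd, Nat.card_pos.ne'⟩⟩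
  obtain ⟨t, htm, htmax⟩ := (Nat.card H).primeFactors.exists_max_image id hne
  obtain ⟨ht, hd, -⟩ := Nat.mem_primeFactors.1 htm
  obtain ⟨het, he2⟩ := hngen t ht hd
  obtain ⟨ho, htF, hi⟩ := hpr t ht hd
  have hmax : ∀ r : ℕ, r.Prime → r ∣ Nat.card H → r ≤ t ∧ 2 ≤ eU q r := fun r hr hrd =>
    ⟨htmax r (Nat.mem_primeFactors.2 ⟨hr, hrd, Nat.card_pos.ne'⟩), (hngen r hr hrd).2⟩
  have h5 : 5 ≤ t := by
    by_contra h6
    have ht3 : t = 3 := by
      obtain ⟨m, hm⟩ := ho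
      have := ht.two_le
      omega
    obtain ⟨s, hs, hsd, hst⟩ := htwo 3 Nat.prime_three
    have h7 := (hmax s hs hsd).1
    obtain ⟨m, hm⟩ := (hpr s hs hsd).1
    have := hs.two_le
    omega
  have hfield : ∀ k, 1 ≤ k → t ∣ Nat.card F ^ k - 1 → t - 1 ≤ 2 * k := by
    intro k hk hdk
    have h6 : ((Nat.card F : ℕ) : ZMod t) ^ k = 1 := by
      have h7 : ((Nat.card F ^ k - 1 : ℕ) : ZMod t) = 0 := (ZMod.natCast_eq_zero_iff _ _).2 hdk
      have h8 : 1 ≤ Nat.card F ^ k := Nat.one_le_pow _ _ Nat.card_pos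
      rw [Nat.cast_sub h8, Nat.cast_pow, Nat.cast_one, sub_eq_zero] at h7
      exact h7
    have h7 : (-(q : ZMod t)) ^ (2 * k) = 1 := by
      rw [pow_mul, neg_sq, ← h6, Nat.card_eq_fintype_card, hF, Nat.cast_pow]
    have h8 : orderOf (-(q : ZMod t)) ∣ 2 * k := orderOf_dvd_of_pow_eq_one h7
    have h9 := Nat.le_of_dvd (by omega) h8
    have h10 : orderOf (-(q : ZMod t)) = t - 1 := het
    omega
  obtain ⟨a, z, hz, hst⟩ := exists_fm D ht ho htF hd hi (fun x hx y hy h6 h7 =>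
    comm_top D.row hHC ht htF h5 het.le hmax hfield h6 hx h7 hy)
  refine ⟨t, a, z, ⟨ht, ho, htF, hd, hz, hst⟩, fun _ _ => h5, fun h => ?_⟩
  exfalso
  have h6 : eU q t = 1 := h
  omega

end Cfsg.Agent.H38.DPU
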